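import Groth.Agent.ZetaCurve.Divisor
import Groth.Agent.CurveBC.Main
import Groth.Agent.CurveVA.Vanish
import Groth.Agent.FFLib.RR
import Groth.Agent.FFLib.ZetaCount
import Groth.Agent.WeilLib.PointCount
import Groth.Agent.InvX.Tensor

/-! The curve and its function field over an arbitrary ground field: residue degrees, constants,
genus. -/

noncomputable section

set_option linter.style.haveILetI false
set_option linter.unusedSectionVars false
set_option backward.isDefEq.respectTransparency false
set_option backward.isDefEq.respectTransparency.types false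

universe u

open CategoryTheory CategoryTheory.Limits AlgebraicGeometry TopologicalSpace Opposite
open Groth.Agent.CurveCohLib.Polar (InR)

namespace Groth.Agent.ZetaCurve

/-- Principal divisors have degree zero. -/
theorem deg_eq_of_mem_prinDivs (k : Type*) [Field k] {K : Type*} [Field K] [Algebra k K] (hF : FFLib.IsFF k K)
    {D E : FunFld.Divisor k K} (h : D - E ∈ FunFld.prinDivs k K) : D.deg = E.deg := by
  obtain ⟨z, -, hz⟩ := (FFLib.mem_prinDivs hF).1 h
  have h1 := FFLib.deg_div hF z
  rw [hz, FFLib.Divisor.deg_sub] at h1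
  linarith

attribute [local instance] ffAlg

variable (k : Type u) [Field k] (X : Scheme.{u}) [X.Over (Spec (CommRingCat.of k))] [IsIntegral X]
  [IsProper (X ↘ Spec (CommRingCat.of k))] [Smooth (X ↘ Spec (CommRingCat.of k))]
  (hdim : topologicalKrullDim X = 1)

/-- The degree of the place of a closed point is its residue degree. -/
theorem deg_pl (z : Pt X) :
    (pl k X hdim z).deg = @Module.finrank k (X.residueField z.1) _ _
      (Curv2.resAlgebra k X z.1).toModule := by
  letI := Curv2.resAlgebra k X z.1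
  let P := pl k X hdim z
  let φ : X.presheaf.stalk z.1 →+* P.O :=
    (algebraMap (X.presheaf.stalk z.1) X.functionField).codRestrict P.O
      fun a => (valAt_le_one_iff k X hdim z _).2 ⟨a, rfl⟩
  have hφ : Function.Bijective φ :=
    ⟨fun a b h => IsFractionRing.injective (X.presheaf.stalk z.1) X.functionField (Subtype.ext_iff.mp h),
      fun c => by
        obtain ⟨a, ha⟩ := (valAt_le_one_iff k X hdim z c.1).1 c.2
        exact ⟨a, Subtype.ext ha⟩⟩
  let e := RingEquiv.ofBijective φ hφ
  let e' : X.residueField z.1 ≃+* IsLocalRing.ResidueField P.O := IsLocalRing.ResidueField.mapEquiv e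
  refine (LinearEquiv.finrank_eq (AlgEquiv.ofRingEquiv (f := e') fun c => ?_).toLinearEquiv).symm
  show IsLocalRing.residue P.O (φ (Curv2.stalkMap k X z.1 c)) =
    IsLocalRing.residue P.O (algebraMap k P.O c)
  exact congrArg _ (Subtype.ext (algebraMap_eq k X z.1 c).symm)

/-- The residue degree of the prelude. -/
theorem deg_pl_eq_residueDegree (z : Pt X) :
    (pl k X hdim z).deg = EGA4loc.residueDegree (X ↘ Spec (CommRingCat.of k)) z.1 := by
  rw [deg_pl k X hdim z, WeilLib.residueDegree_eq_finrank]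

include hdim in
/-- The constants of the function field. -/
theorem isFunctionField (h0 : Module.finrank k (Coh.HH X (Coh.structureModule X) 0) = 1) :
    FunFld.IsFunctionField k X.functionField := by
  obtain ⟨t, ht⟩ : ∃ t : X.functionField, Transcendental k t := by
    by_contra hno
    push Not at hno
    haveI : Algebra.IsAlgebraic k X.functionField := ⟨fun y => not_not.1 (hno y)⟩
    have h := trdeg_eq_one k X hdim
    rw [trdeg_eq_zero] at h
    exact zero_ne_one h
  have hFF : FFLib.IsFF k X.functionField := by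
    refine ⟨t, ht, ?_⟩
    let E := IntermediateField.adjoin k ({t} : Set X.functionField)
    have hind : AlgebraicIndependent k (fun _ : PUnit.{u + 1} => t) :=
      algebraicIndependent_unique_type_iff.2 ht
    have hB := hind.isTranscendenceBasis_of_trdeg_le_of_finite (by
        rw [trdeg_eq_one k X hdim]; exact (Cardinal.one_le_iff_ne_zero.2 (Cardinal.mk_ne_zero PUnit.{u + 1})))
    haveI : Algebra.IsAlgebraic E X.functionField := by
      have := hB.isAlgebraic_field
      rwa [Set.range_const] at this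
    haveI := essFiniteType k X hdim
    haveI : Algebra.EssFiniteType E X.functionField := Algebra.EssFiniteType.of_comp k E X.functionField
    obtain ⟨S, hS⟩ := IntermediateField.fg_top E X.functionField
    have : FiniteDimensional E (IntermediateField.adjoin E (S : Set X.functionField)) :=
      IntermediateField.finiteDimensional_adjoin fun x _ => Algebra.IsIntegral.isIntegral x
    rw [hS] at this
    exact Module.Finite.equiv (IntermediateField.topEquiv (F := E) (E := X.functionField)).toLinearEquiv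
  refine ⟨hFF, fun y hy => ?_⟩
  -- the divisor of the structure module is zero
  have hη : genericPoint X ∈ (⊤ : X.Opens) := trivial
  have hD : divisor k hdim (InvX.isInvertible_structureModule (X := X)) (InvX.isFrame_one ⊤) hη = 0 := by
    ext P
    obtain ⟨z, rfl⟩ := (pl k X hdim).surjective P
    refine Eq.trans ?_ (ordFun_eq_zero k hdim InvX.isInvertible_structureModule (InvX.isFrame_one ⊤) hη
      (z := z) trivial)
    show ordFun k hdim _ _ hη ((pl k X hdim).symm (pl k X hdim z)) = _
    rw [Equiv.symm_apply_apply]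
  have h1 : Module.finrank k (FunFld.L (0 : FunFld.Divisor k X.functionField)) = 1 := by
    have h := finrank_h0_eq_ell k hdim InvX.isInvertible_structureModule (InvX.isFrame_one (X := X) ⊤) hη
    rw [hD, h0] at h
    exact h.symm
  have hy' : y ∈ FunFld.L (0 : FunFld.Divisor k X.functionField) := fun P => by
    rcases eq_or_ne y 0 with rfl | hy0
    · simp
    by_contra hP
    refine FFLib.transcendental_of_val_ne_one P hy0 (fun e => hP (by rw [e]; simp)) hy
  let one : FunFld.L (0 : FunFld.Divisor k X.functionField) := ⟨1, fun P => by simp⟩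
  obtain ⟨c, hc⟩ := (finrank_eq_one_iff_of_nonzero' one fun h => one_ne_zero (Subtype.ext_iff.mp h)).1 h1
    ⟨y, hy'⟩
  exact ⟨c, (Algebra.algebraMap_eq_smul_one c).trans (Subtype.ext_iff.mp hc)⟩

include hdim in
/-- Key computation with a module of large degree. -/
theorem genus_deg_aux (h0 : Module.finrank k (Coh.HH X (Coh.structureModule X) 0) = 1) {J : X.Modules}
    (hJ : PicF.IsInvertible J) (hdJ : 2 * (Curv2.genus k X : ℤ) + 1 ≤ Curv2.deg k X J 1) {U₀ : X.Opens}
    (h₀ : genericPoint X ∈ U₀) {e : Γ(J, U₀)} (he : InvX.IsFrame e) :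
    FunFld.genus k X.functionField = Curv2.genus k X ∧
      (divisor k hdim hJ he h₀).deg = Curv2.deg k X J 1 := by
  haveI := CurveCohLib.isNoetherian_of_proper (k := k) (X := X)
  have hK := isFunctionField k X hdim h0
  obtain ⟨δ, hδ⟩ : ∃ δ, (divisor k hdim hJ he h₀).deg = δ := ⟨_, rfl⟩
  obtain ⟨d, hd⟩ : ∃ d, Curv2.deg k X J 1 = d := ⟨_, rfl⟩
  -- powers of `J`
  have hpow : ∀ n : ℕ, ∃ (L : X.Modules) (hL : PicF.IsInvertible L) (c : Γ(L, U₀)) (hc : InvX.IsFrame c),
      Curv2.deg k X L 1 = (n + 1) * d ∧ (divisor k hdim hL hc h₀).deg = (n + 1) * δ := by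
    intro n
    induction n with
    | zero => exact ⟨J, hJ, e, he, by simpa using hd, by simpa using hδ⟩
    | succ n ih =>
      obtain ⟨L, hL, c, hc, h1, h2⟩ := ih
      refine ⟨CohB1.tensorMod L J, InvX.isInvertible_tensorMod hL hJ, InvX.tmul c e,
        InvX.isFrame_tmul hc he, ?_, ?_⟩
      · rw [show Curv2.deg k X (CohB1.tensorMod L J) 1 = _ from CurveRR.deg_tensor k hdim hL hJ, h1, hd]
        push_cast; ring
      · rw [divisor_tensor k hdim hL hc h₀ hJ he, FFLib.Divisor.deg_add, h2, hδ]
        push_cast; ring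
  set g := Curv2.genus k X
  set G := FunFld.genus k X.functionField
  have hell : ∀ n : ℕ, ∃ D : FunFld.Divisor k X.functionField, D.deg = (n + 1) * δ ∧
      (FunFld.ell D : ℤ) = (n + 1) * d + 1 - g := by
    intro n
    obtain ⟨L, hL, c, hc, h1, h2⟩ := hpow n
    refine ⟨_, h2, ?_⟩
    rw [← finrank_h0_eq_ell k hdim hL hc h₀]
    have hle : (2 * (g : ℤ) + 1) * 1 ≤ d * ((n : ℤ) + 1) :=
      mul_le_mul (hd ▸ hdJ) (by omega) (by omega) (by omega)
    haveI := CurveVA.subsingleton_h1_of_deg k hdim h0 hL (by rw [h1]; linarith)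
    have h3 := CurveRR.euler_eq_h0_sub_h1 k hdim.le (CurveDeg.isCoh_of_isInvertible hL).1
    rw [Module.finrank_zero_of_subsingleton (R := k) (M := Coh.HH X L 1)] at h3
    have h4 := CurveRR.euler_eq_h0_sub_h1 k hdim.le (QCoh.isQCoh_structureModule (X := X))
    rw [h0] at h4
    have h5 : Curv2.deg k X L 1 = Curv2.euler k X L - 1 * Curv2.euler k X (Coh.structureModule X) := rfl
    rw [h1, h3, h4] at h5
    show _ = (n + 1 : ℤ) * d + 1 - (Module.finrank k (Coh.HH X (Coh.structureModule X) 1) : ℤ)
    push_cast at h5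
    linarith
  have hd1 : 1 ≤ d := by omega
  have hδ1 : 1 ≤ δ := by
    by_contra hneg
    obtain ⟨D, hD, hl⟩ := hell g
    have hpos : 0 < FunFld.ell D := by
      have : (0 : ℤ) < FunFld.ell D := by nlinarith
      exact_mod_cast this
    obtain ⟨z, hz0, -, hz⟩ := FFLib.exists_le_add_div hK.1 hpos
    have hDle : D.deg ≤ 0 := by rw [hD]; exact mul_nonpos_of_nonneg_of_nonpos (by omega) (by omega)
    have h1 := (FFLib.ell_le_of_le hK.1 hz).2
    rw [FFLib.ell_add_div hK.1 D hz0, FFLib.ell_zero hK, FFLib.Divisor.deg_zero, FFLib.Divisor.deg_add,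
      FFLib.deg_div hK.1] at h1
    push_cast at h1
    nlinarith
  have hbig : ∀ n : ℕ, 2 * (G : ℤ) ≤ n →
      ((n : ℤ) + 1) * δ + 1 - G = ((n : ℤ) + 1) * d + 1 - g := by
    intro n hn
    obtain ⟨D, hD, hl⟩ := hell n
    have h3 := FFLib.ell_of_deg_gt hK (D := D) (by
      rw [hD]
      nlinarith [mul_nonneg (show (0 : ℤ) ≤ n + 1 by omega) (show (0 : ℤ) ≤ δ - 1 by omega)])
    rw [hl, hD] at h3
    exact h3.symm
  have e1 := hbig (2 * G) (by push_cast; omega)
  have e2 := hbig (2 * G + 1) (by push_cast; omega)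
  push_cast at e1 e2
  have hdd : δ = d := by linarith
  subst hdd
  refine ⟨?_, hδ.trans hd.symm⟩
  omega

include hdim in
/-- The genus of the curve is the genus of its function field. -/
theorem genus_eq (h0 : Module.finrank k (Coh.HH X (Coh.structureModule X) 0) = 1) :
    FunFld.genus k X.functionField = Curv2.genus k X := by
  obtain ⟨J, hJ, hdJ⟩ := CurveDuality.exists_deg_ge k hdim (2 * (Curv2.genus k X : ℤ) + 1)
  obtain ⟨U₀, h₀, e, he⟩ := InvX.exists_frame hJ (genericPoint X)
  exact (genus_deg_aux k X hdim h0 hJ hdJ h₀ he).1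

variable {X}

include hdim in
/-- A change of frame changes the divisor by a principal divisor. -/
theorem divisor_change (hF : FFLib.IsFF k X.functionField) {M : X.Modules} (hM : PicF.IsInvertible M)
    {U₀ U₁ : X.Opens} {e₀ : Γ(M, U₀)} (he₀ : InvX.IsFrame e₀) (h₀ : genericPoint X ∈ U₀)
    {e₁ : Γ(M, U₁)} (he₁ : InvX.IsFrame e₁) (h₁ : genericPoint X ∈ U₁) :
    divisor k hdim hM he₀ h₀ - divisor k hdim hM he₁ h₁ ∈ FunFld.prinDivs k X.functionField := by
  have hc : ratio he₀ h₀ h₁ e₁ ≠ 0 := ratio_ne_zero he₀ h₀ he₁ h₁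
  refine (FFLib.mem_prinDivs hF).2 ⟨(ratio he₀ h₀ h₁ e₁ : X.functionField)⁻¹, inv_ne_zero hc, ?_⟩
  rw [FFLib.div_inv hF]
  ext P
  obtain ⟨z, rfl⟩ := (pl k X hdim).surjective P
  have hU := CurveCohLib.Polar.eta_mem (mem_chartU hM z)
  rw [Finsupp.neg_apply, Finsupp.sub_apply, FFLib.div_apply hF]
  refine WithZero.exp_injective ?_
  rw [WithZero.exp_sub, exp_divisor k hdim hM he₀ h₀ (isFrame_chartE hM z) hU (mem_chartU hM z),
    exp_divisor k hdim hM he₁ h₁ (isFrame_chartE hM z) hU (mem_chartU hM z),
    ratio_trans he₀ h₀ he₁ h₁ hU (chartE hM z), map_mul, ← FFLib.val_eq_exp _ hc, mul_div_assoc]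
  symm
  exact mul_div_cancel₀ _ ((map_ne_zero _).2 (ratio_ne_zero he₁ h₁ (isFrame_chartE hM z) hU))

include hdim in
/-- The degree of the divisor is the degree of the module. -/
theorem deg_divisor (h0 : Module.finrank k (Coh.HH X (Coh.structureModule X) 0) = 1) {M : X.Modules}
    (hM : PicF.IsInvertible M) {U₀ : X.Opens} {e₀ : Γ(M, U₀)} (he₀ : InvX.IsFrame e₀)
    (h₀ : genericPoint X ∈ U₀) : (divisor k hdim hM he₀ h₀).deg = Curv2.deg k X M 1 := by
  have hK := isFunctionField k X hdim h0
  obtain ⟨J, hJ, hdJ⟩ := CurveDuality.exists_deg_ge k hdim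
    (2 * (Curv2.genus k X : ℤ) + 1 + |Curv2.deg k X M 1|)
  obtain ⟨U₁, h₁, a, b, ha, hb⟩ := InvX.exists_frame₂ hM hJ (genericPoint X)
  have e1 := deg_eq_of_mem_prinDivs k hK.1 (divisor_change k hdim hK.1 hM he₀ h₀ ha h₁)
  have hdt : Curv2.deg k X (CohB1.tensorMod M J) 1 = _ := CurveRR.deg_tensor k hdim hM hJ
  have h2 := (genus_deg_aux k X hdim h0 hJ (le_trans (le_add_of_nonneg_right (abs_nonneg _)) hdJ) h₁ hb).2
  have h3 := (genus_deg_aux k X hdim h0 (InvX.isInvertible_tensorMod hM hJ) (J := CohB1.tensorMod M J)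
    (by rw [hdt]; linarith [neg_abs_le (Curv2.deg k X M 1)]) h₁ (InvX.isFrame_tmul ha hb)).2
  rw [divisor_tensor k hdim hM ha h₁ hJ hb, FFLib.Divisor.deg_add, h2, hdt] at h3
  linarith

end Groth.Agent.ZetaCurve
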