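import Groth.Agent.ZetaCurve.Bridge
import Groth.Agent.CurveVA.Twist
import Groth.Agent.FFLib.Numer
import Groth.Agent.H23.PicMul
import Groth.Agent.Lib.CurveRR

/-! Divisor classes of invertible modules over an arbitrary ground field. -/

noncomputable section

set_option linter.style.haveILetI false
set_option linter.unusedSectionVars false
set_option backward.isDefEq.respectTransparency false
set_option backward.isDefEq.respectTransparency.types false

universe u

open CategoryTheory CategoryTheory.Limits AlgebraicGeometry TopologicalSpace Opposite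
open Groth.Agent.CurveCohLib.Polar (eta_mem)
open Groth.Agent.CurvePoint (ptMod ptIdeal)

namespace Groth.Agent.ZetaCurve

attribute [local instance] ffAlg

variable (k : Type u) [Field k] {X : Scheme.{u}} [X.Over (Spec (CommRingCat.of k))] [IsIntegral X]
  [IsProper (X ↘ Spec (CommRingCat.of k))] [Smooth (X ↘ Spec (CommRingCat.of k))]

include k in
/-- The ideal of a point in a frame. -/
theorem ptIdeal_frame (hdim : topologicalKrullDim X = 1) {a : X} (hac : IsClosed ({a} : Set X)) (x : X) :
    ∃ (V : X.Opens) (hx : x ∈ V) (ε : Γ(ptMod a hac, V)), InvX.IsFrame ε ∧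
      Ideal.span {X.presheaf.germ V x hx (show Γ(X, V) from (ClSub.idealModι (ptIdeal a hac)).app V ε)} =
        CurveVA.ptJ a x := by
  haveI := CurveCohLib.isNoetherian_of_proper (k := k) (X := X)
  obtain ⟨V, hxV, ε, hε⟩ := InvX.exists_frame (CurvePoint.isInvertible_ptMod a hac k hdim) x
  refine ⟨V, hxV, ε, hε, ?_⟩
  let F := DerSch.stalkFunctor X x
  let ι := ClSub.idealModι (ptIdeal a hac)
  let q := ClSub.toSubscheme (ptIdeal a hac)
  have hS := CurvePoint.shortExact_pt a hac
  haveI : Epi q := hS.epi_g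
  let u : Γ(X, V) := (show Γ(X, V) from ι.app V ε)
  let one : F.obj (Coh.structureModule X) :=
    (Coh.structureModule X).presheaf.germ ⊤ x trivial (show Γ(Coh.structureModule X, ⊤) from (1 : Γ(X, ⊤)))
  have hone : ∀ y : F.obj (Coh.structureModule X), ∃ c : X.presheaf.stalk x, y = c • one := fun y => by
    obtain ⟨c, hc⟩ := ((InvX.isFrame_one (X := X) ⊤).germ_bijective (x := x) trivial).2 y
    exact ⟨c, hc.symm⟩
  have himg : ∀ c : X.presheaf.stalk x, c ∈ Ideal.span {X.presheaf.germ V x hxV u} ↔ F.map q (c • one) = 0 := by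
    intro c
    have hu1 : F.map ι ((ptMod a hac).presheaf.germ V x hxV ε) = X.presheaf.germ V x hxV u • one := by
      refine (TopCat.Presheaf.stalkFunctor_map_germ_apply V x hxV ((Scheme.Modules.toPresheaf X).map ι) ε).trans ?_
      have h2 : (ι.app V ε) = u • AModX.res (Coh.structureModule X) (le_top : V ≤ ⊤)
          (show Γ(Coh.structureModule X, ⊤) from (1 : Γ(X, ⊤))) := by
        show u = u * X.presheaf.map (homOfLE (le_top : V ≤ ⊤)).op (1 : Γ(X, ⊤))
        rw [map_one, mul_one]
      refine (congrArg ((Coh.structureModule X).presheaf.germ V x hxV) h2).trans ?_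
      rw [QCoh.germ_smul', InvX.germ_res']
    refine ⟨fun h => ?_, fun h => ?_⟩
    · obtain ⟨d, rfl⟩ := Ideal.mem_span_singleton'.1 h
      rw [show (d * X.presheaf.germ V x hxV u) • one = d • F.map ι ((ptMod a hac).presheaf.germ V x hxV ε) by
        rw [hu1]; exact mul_smul d _ one]
      rw [map_smul (F.map q).hom, ← ConcreteCategory.comp_apply, ← F.map_comp]
      rw [show ι ≫ q = 0 from kernel.condition _, F.map_zero]
      exact smul_zero _
    · obtain ⟨m, hm⟩ := (ShortComplex.moduleCat_exact_iff _).1 (hS.map_of_exact F).exact _ h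
      obtain ⟨d, hd⟩ := (hε.germ_bijective hxV).2 m
      refine Ideal.mem_span_singleton'.2 ⟨d, ((InvX.isFrame_one (X := X) ⊤).germ_bijective (x := x) trivial).1 ?_⟩
      show (d * X.presheaf.germ V x hxV u) • one = c • one
      refine (mul_smul d _ one).trans ?_
      rw [← hu1, ← map_smul (F.map ι).hom]
      exact (congrArg (F.map ι) hd).trans hm
  by_cases hxa : x = a
  · subst hxa
    rw [CurveVA.ptJ_self]
    refine le_antisymm (IsLocalRing.le_maximalIdeal fun htop => CurvePoint.not_subsingleton_stalk x hac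
      (subsingleton_of_forall_eq 0 fun z => ?_)) fun c hc => (himg c).2 ?_
    · obtain ⟨y, rfl⟩ := (ModuleCat.epi_iff_surjective (F.map q)).1 inferInstance z
      obtain ⟨c, rfl⟩ := hone y
      exact (himg c).1 (htop ▸ Submodule.mem_top)
    · rw [map_smul (F.map q).hom]
      exact CurvePoint.smul_quot_eq_zero x hac hc _
  · rw [CurveVA.ptJ_ne hxa, eq_top_iff]
    intro c _
    refine (himg c).2 ?_
    haveI : Subsingleton ↑(F.obj (ClSub.quotMod (ptIdeal a hac))) := CurvePoint.subsingleton_stalk_of_ne a hac hxa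
    exact Subsingleton.elim _ _

variable (hdim : topologicalKrullDim X = 1)

/-- The value of a map to the structure module on a frame. -/
theorem germ_app_eq_ratio {M : X.Modules} (ι : M ⟶ Coh.structureModule X) {U₀ U : X.Opens} {e₀ : Γ(M, U₀)}
    (he₀ : InvX.IsFrame e₀) (h₀ : genericPoint X ∈ U₀) (hU : genericPoint X ∈ U) (s : Γ(M, U)) :
    X.presheaf.germ U (genericPoint X) hU (show Γ(X, U) from ι.app U s) =
      ratio he₀ h₀ hU s * X.presheaf.germ U₀ (genericPoint X) h₀ (show Γ(X, U₀) from ι.app U₀ e₀) := by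
  let W := U₀ ⊓ U
  have hW : genericPoint X ∈ W := ⟨h₀, hU⟩
  obtain ⟨g, hg, hgr⟩ := exists_coord_ratio he₀ (inf_le_left : W ≤ U₀) hW (AModX.res M inf_le_right s)
  have e1 : ratio he₀ h₀ hU s = X.presheaf.germ W _ hW g := by
    rw [← hgr]
    exact ratio_eq he₀ (by rw [ratio_spec, gM_res])
  rw [e1]
  have h := congrArg (fun t => (show Γ(X, W) from ι.app W t)) hg
  simp only at h
  rw [Scheme.Modules.Hom.app_smul, AModX.app_res, AModX.app_res] at h
  have h' : AModX.resR (inf_le_right : W ≤ U) (show Γ(X, U) from ι.app U s) =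
      g * AModX.resR (inf_le_left : W ≤ U₀) (show Γ(X, U₀) from ι.app U₀ e₀) := h
  rw [← InvX.germ_resR' (inf_le_right : W ≤ U) hW, ← InvX.germ_resR' (inf_le_left : W ≤ U₀) hW, ← map_mul, h']

theorem valAt_of_span_eq (z : Pt X) {a : X.presheaf.stalk z.1} {p : X} (h : Ideal.span {a} = CurveVA.ptJ p z.1) :
    (z.1 = p → (pl k X hdim z).1 (algebraMap (X.presheaf.stalk z.1) X.functionField a) = WithZero.exp (-1 : ℤ)) ∧
    (z.1 ≠ p → (pl k X hdim z).1 (algebraMap (X.presheaf.stalk z.1) X.functionField a) = 1) := by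
  haveI := isDVR k X hdim z.2
  refine ⟨fun hz => ?_, fun hz => ?_⟩
  · subst hz
    rw [CurveVA.ptJ_self] at h
    have hirr : Irreducible a := (IsDiscreteValuationRing.irreducible_iff_uniformizer a).2 h.symm
    refine ((IsDiscreteValuationRing.maximalIdeal (X.presheaf.stalk z.1)).valuation_of_algebraMap a).trans ?_
    exact IsDedekindDomain.HeightOneSpectrum.intValuation_singleton _ hirr.ne_zero h.symm
  · rw [CurveVA.ptJ_ne hz] at h
    refine le_antisymm ((valAt_le_one_iff k X hdim z _).2 ⟨a, rfl⟩) (not_lt.1 fun hlt => ?_)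
    exact (IsLocalRing.mem_maximalIdeal a).1 ((valAt_lt_one_iff k X hdim z a).1 hlt)
      (Ideal.span_singleton_eq_top.1 h)

include hdim in
/-- Every place comes from an invertible module. -/
theorem exists_divisor_ptMod (hF : FFLib.IsFF k X.functionField) (p : Pt X) :
    ∃ (M : X.Modules) (hM : PicF.IsInvertible M) (U₀ : X.Opens) (h₀ : genericPoint X ∈ U₀) (e : Γ(M, U₀))
      (he : InvX.IsFrame e), divisor k hdim hM he h₀ + Finsupp.single (pl k X hdim p) 1 ∈
        FunFld.prinDivs k X.functionField := by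
  classical
  have hI := CurvePoint.isInvertible_ptMod p.1 p.2 k hdim
  obtain ⟨U₀, h₀, e, he, -⟩ := ptIdeal_frame k hdim p.2 (genericPoint X)
  refine ⟨_, hI, U₀, h₀, e, he, ?_⟩
  let ι := ClSub.idealModι (ptIdeal p.1 p.2)
  let u₀ : X.functionField := X.presheaf.germ U₀ (genericPoint X) h₀ (show Γ(X, U₀) from ι.app U₀ e)
  have key : ∀ z : Pt X, WithZero.exp (divisor k hdim hI he h₀ (pl k X hdim z)) * (pl k X hdim z).1 u₀ =
      WithZero.exp (-(Finsupp.single (pl k X hdim p) (1 : ℤ) (pl k X hdim z))) := by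
    intro z
    obtain ⟨V, hzV, ε, hε, hspan⟩ := ptIdeal_frame k hdim p.2 z.1
    have hV := eta_mem hzV
    rw [exp_divisor k hdim hI he h₀ hε hV hzV]
    refine ((map_mul _ _ _).symm.trans (congrArg (pl k X hdim z).1
      (germ_app_eq_ratio ι he h₀ hV ε).symm)).trans ?_
    haveI : Nonempty V := ⟨⟨z.1, hzV⟩⟩
    have h1 := valAt_of_span_eq k hdim z hspan
    rw [show algebraMap (X.presheaf.stalk z.1) X.functionField (X.presheaf.germ V z.1 hzV
      (show Γ(X, V) from ι.app V ε)) = X.presheaf.germ V (genericPoint X) hV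
      (show Γ(X, V) from ι.app V ε) from X.algebraMap_germ_eq_germToFunctionField hzV _] at h1
    by_cases hzp : z.1 = p.1
    · obtain rfl : z = p := Subtype.ext hzp
      rw [Finsupp.single_eq_same]
      exact h1.1 rfl
    · rw [Finsupp.single_eq_of_ne fun h => hzp (congrArg Subtype.val ((pl k X hdim).injective h)),
        neg_zero, WithZero.exp_zero]
      exact h1.2 hzp
  have hu0 : u₀ ≠ 0 := fun h => by
    have h1 := key p
    rw [h, map_zero, mul_zero] at h1
    exact WithZero.exp_ne_zero h1.symm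
  refine (FFLib.mem_prinDivs hF).2 ⟨u₀, hu0, ?_⟩
  ext P
  obtain ⟨z, rfl⟩ := (pl k X hdim).surjective P
  have h1 := key z
  rw [FFLib.val_eq_exp _ hu0, ← WithZero.exp_add, WithZero.exp_inj] at h1
  rw [FFLib.div_apply hF, Finsupp.add_apply]
  omega

/-- The divisor class of an invertible module. -/
def clsD (M : X.Modules) (hM : PicF.IsInvertible M) :
    FunFld.Divisor k X.functionField ⧸ FunFld.prinDivs k X.functionField :=
  QuotientAddGroup.mk (divisor k hdim hM
    (InvX.exists_frame hM (genericPoint X)).choose_spec.choose_spec.choose_spec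
    (InvX.exists_frame hM (genericPoint X)).choose_spec.choose)

include hdim in
theorem clsD_eq (hF : FFLib.IsFF k X.functionField) {M : X.Modules} (hM : PicF.IsInvertible M)
    {U₀ : X.Opens} {e : Γ(M, U₀)} (he : InvX.IsFrame e) (h₀ : genericPoint X ∈ U₀) :
    clsD k hdim M hM = QuotientAddGroup.mk (divisor k hdim hM he h₀) := by
  rw [clsD, QuotientAddGroup.eq_iff_sub_mem]
  exact divisor_change k hdim hF hM _ _ he h₀

include hdim in
theorem clsD_iso (hF : FFLib.IsFF k X.functionField) {M N : X.Modules} (hM : PicF.IsInvertible M)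
    (hN : PicF.IsInvertible N) (φ : M ≅ N) : clsD k hdim M hM = clsD k hdim N hN := by
  obtain ⟨U₀, h₀, e, he⟩ := InvX.exists_frame hM (genericPoint X)
  rw [clsD_eq k hdim hF hM he h₀, clsD_eq k hdim hF hN (InvX.IsFrame.map_iso φ he) h₀,
    divisor_iso k hdim hM he h₀ hN φ]

include hdim in
theorem clsD_tensor (hF : FFLib.IsFF k X.functionField) {M N : X.Modules} (hM : PicF.IsInvertible M)
    (hN : PicF.IsInvertible N) :
    clsD k hdim (CohB1.tensorMod M N) (InvX.isInvertible_tensorMod hM hN) =
      clsD k hdim M hM + clsD k hdim N hN := by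
  obtain ⟨U₀, h₀, a, b, ha, hb⟩ := InvX.exists_frame₂ hM hN (genericPoint X)
  rw [clsD_eq k hdim hF _ (InvX.isFrame_tmul ha hb) h₀, clsD_eq k hdim hF hM ha h₀,
    clsD_eq k hdim hF hN hb h₀, divisor_tensor k hdim hM ha h₀ hN hb]
  rfl

include hdim in
theorem clsD_structure (hF : FFLib.IsFF k X.functionField) :
    clsD k hdim (Coh.structureModule X) InvX.isInvertible_structureModule = 0 := by
  have hη : genericPoint X ∈ (⊤ : X.Opens) := trivial
  rw [clsD_eq k hdim hF _ (InvX.isFrame_one ⊤) hη, QuotientAddGroup.eq_zero_iff]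
  suffices divisor k hdim (InvX.isInvertible_structureModule (X := X)) (InvX.isFrame_one ⊤) hη = 0 by
    rw [this]; exact zero_mem _
  ext P
  obtain ⟨z, rfl⟩ := (pl k X hdim).surjective P
  refine Eq.trans ?_ (ordFun_eq_zero k hdim InvX.isInvertible_structureModule (InvX.isFrame_one ⊤) hη
    (z := z) trivial)
  show ordFun k hdim _ _ hη ((pl k X hdim).symm (pl k X hdim z)) = _
  rw [Equiv.symm_apply_apply]

include hdim in
/-- Surjectivity onto divisor classes. -/
theorem clsD_surjective (hF : FFLib.IsFF k X.functionField)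
    (c : FunFld.Divisor k X.functionField ⧸ FunFld.prinDivs k X.functionField) :
    ∃ (M : X.Modules) (hM : PicF.IsInvertible M), clsD k hdim M hM = c := by
  let S : AddSubgroup (FunFld.Divisor k X.functionField ⧸ FunFld.prinDivs k X.functionField) :=
    { carrier := {c | ∃ (M : X.Modules) (hM : PicF.IsInvertible M), clsD k hdim M hM = c}
      zero_mem' := ⟨_, _, clsD_structure k hdim hF⟩
      add_mem' := by
        rintro _ _ ⟨M, hM, rfl⟩ ⟨N, hN, rfl⟩
        exact ⟨_, _, clsD_tensor k hdim hF hM hN⟩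
      neg_mem' := by
        rintro _ ⟨M, hM, rfl⟩
        obtain ⟨D, hD, -, ⟨e⟩⟩ := CurveDuality.exists_inverse_deg k hdim hM
        refine ⟨D, hD, eq_neg_of_add_eq_zero_right ?_⟩
        rw [← clsD_tensor k hdim hF hM hD, ← clsD_structure k hdim hF]
        exact clsD_iso k hdim hF _ _ e }
  suffices c ∈ S from this
  induction c using QuotientAddGroup.induction_on with
  | H D =>
    induction D using Finsupp.induction with
    | zero => exact S.zero_mem
    | single_add P n f _ _ ih =>
      rw [QuotientAddGroup.mk_add]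
      refine S.add_mem ?_ ih
      rw [← mul_one n, ← smul_eq_mul, ← Finsupp.smul_single, QuotientAddGroup.mk_zsmul]
      refine S.zsmul_mem ?_ n
      obtain ⟨p, rfl⟩ := (pl k X hdim).surjective P
      obtain ⟨M, hM, U₀, h₀, e, he, hmem⟩ := exists_divisor_ptMod k hdim hF p
      have h1 : clsD k hdim M hM ∈ S := ⟨M, hM, rfl⟩
      rw [clsD_eq k hdim hF hM he h₀] at h1
      have h2 := (QuotientAddGroup.eq_zero_iff _).2 hmem
      rw [QuotientAddGroup.mk_add] at h2
      rw [eq_neg_of_add_eq_zero_right h2]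
      exact S.neg_mem h1

include hdim in
/-- A module with principal divisor is trivial. -/
theorem nonempty_iso_of_clsD_eq_zero (h0 : Module.finrank k (Coh.HH X (Coh.structureModule X) 0) = 1)
    {L : X.Modules} (hL : PicF.IsInvertible L) (h : clsD k hdim L hL = 0) :
    Nonempty (L ≅ Coh.structureModule X) := by
  have hK := isFunctionField k X hdim h0
  obtain ⟨U₀, h₀, e, he⟩ := InvX.exists_frame hL (genericPoint X)
  rw [clsD_eq k hdim hK.1 hL he h₀, QuotientAddGroup.eq_zero_iff] at h
  have h1 : FunFld.ell (divisor k hdim hL he h₀) = 1 := by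
    rw [FFLib.ell_congr hK.1 (E := 0) (by rwa [sub_zero]), FFLib.ell_zero hK]
  have hd : Curv2.deg k X L 1 = 0 := by
    rw [← deg_divisor k hdim h0 hL he h₀, deg_eq_of_mem_prinDivs k hK.1 (E := 0) (by rwa [sub_zero]),
      FFLib.Divisor.deg_zero]
  obtain ⟨s, hs⟩ := CurveRR.exists_hom_ne_zero k (P := L)
    (by rw [finrank_h0_eq_ell k hdim hL he h₀, h1]; exact one_ne_zero)
  haveI := (CurveDeg.deg_le_and_isIso k hdim.le InvX.isInvertible_structureModule hL s hs).2
    (by rw [hd]; exact CurveDeg.deg_structureModule k)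
  exact ⟨(asIso s).symm⟩

include hdim in
/-- Modules with equal divisor classes are isomorphic. -/
theorem nonempty_iso_of_clsD_eq (h0 : Module.finrank k (Coh.HH X (Coh.structureModule X) 0) = 1)
    {M N : X.Modules} (hM : PicF.IsInvertible M) (hN : PicF.IsInvertible N)
    (h : clsD k hdim M hM = clsD k hdim N hN) : Nonempty (M ≅ N) := by
  have hF := (isFunctionField k X hdim h0).1
  obtain ⟨D, hD, -, ⟨e⟩⟩ := CurveDuality.exists_inverse_deg k hdim hN
  obtain ⟨u⟩ := nonempty_iso_of_clsD_eq_zero k hdim h0 (InvX.isInvertible_tensorMod hM hD) (by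
    rw [clsD_tensor k hdim hF hM hD, h, ← clsD_tensor k hdim hF hN hD, ← clsD_structure k hdim hF]
    exact clsD_iso k hdim hF _ _ e)
  letI := H23.PicMul.clMonoid X
  have h1 : PicF.cl M * PicF.cl D = 1 := by
    rw [← H23.PicMul.cl_tensor, H23.PicMul.one_def]
    exact Quot.sound ⟨u⟩
  have h2 : PicF.cl N * PicF.cl D = 1 := by
    rw [← H23.PicMul.cl_tensor, H23.PicMul.one_def]
    exact Quot.sound ⟨e⟩
  exact H23.PicMul.cl_eq_iff.1 (left_inv_eq_right_inv h1 ((mul_comm _ _).trans h2))

end Groth.Agent.ZetaCurve
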