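import Groth.Agent.ZetaCurve.Bridge
import Groth.Agent.FFLib.Weil.RH
import Groth.Agent.ZetaLib.PointsOfExt
import Groth.Prelude.Def_SgaExt
import Groth.Prelude.Def_Curve

/-! The Weil conjectures for curves over finite fields. -/

noncomputable section

set_option linter.style.haveILetI false
set_option linter.unusedSectionVars false
set_option backward.isDefEq.respectTransparency false
set_option backward.isDefEq.respectTransparency.types false

universe u

open CategoryTheory CategoryTheory.Limits AlgebraicGeometry TopologicalSpace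

namespace Groth.Agent.ZetaCurve

attribute [local instance] ffAlg

variable (k : Type u) [Field k] (X : Scheme.{u}) [X.Over (Spec (CommRingCat.of k))] [IsIntegral X]
  [IsProper (X ↘ Spec (CommRingCat.of k))] [Smooth (X ↘ Spec (CommRingCat.of k))]
  (hdim : topologicalKrullDim X = 1)

include hdim in
theorem degCount_eq (e : ℕ) :
    Zeta.degCount (X ↘ Spec (CommRingCat.of k)) e =
      Nat.card {P : FunFld.Place k X.functionField // P.deg = e} := by
  refine Nat.card_congr ((Equiv.subtypeSubtypeEquivSubtypeInter _ _).symm.trans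
    ((pl k X hdim).subtypeEquiv fun z => ?_))
  rw [deg_pl_eq_residueDegree k X hdim z]

include hdim in
theorem nPts_eq_placeCount (n : ℕ) :
    Zeta.nPts (X ↘ Spec (CommRingCat.of k)) n = FFLib.placeCount k X.functionField n := by
  rw [Zeta.nPts, FFLib.placeCount]
  exact Finset.sum_congr rfl fun e _ => by rw [degCount_eq k X hdim e]

theorem h0_of_geometricallyIrreducible [GeometricallyIrreducible (X ↘ Spec (CommRingCat.of k))] :
    Module.finrank k (Coh.HH X (Coh.structureModule X) 0) = 1 := by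
  haveI : GeometricallyConnected (X ↘ Spec (CommRingCat.of k)) := ⟨fun L _ x Z a b hp =>
    haveI : IrreducibleSpace Z := GeometricallyIrreducible.geometrically_irreducibleSpace
      (f := X ↘ Spec (CommRingCat.of k)) x a b hp
    IrreducibleSpace.connectedSpace _⟩
  exact CurveBC.finrank_h0_of_geometricallyConnected k X

include hdim in
/-- The reciprocal roots of the curve. -/
theorem exists_roots [Finite k] [GeometricallyIrreducible (X ↘ Spec (CommRingCat.of k))] :
    ∃ α : Fin (2 * Curv2.genus k X) → ℂ, (∀ i, IsIntegral ℤ (α i)) ∧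
      (∀ i, ‖α i‖ ^ 2 = (Nat.card k : ℝ)) ∧ (∀ i, α (Fin.rev i) * α i = (Nat.card k : ℂ)) ∧
      (PowerSeries.map (Int.castRingHom ℂ) (FunFld.numerZ k X.functionField) =
        ((∏ i, (1 - Polynomial.C (α i) * Polynomial.X) : Polynomial ℂ) : PowerSeries ℂ)) ∧
      ∀ n : ℕ, 1 ≤ n → (Zeta.nPts (X ↘ Spec (CommRingCat.of k)) n : ℂ) =
        (Nat.card k : ℂ) ^ n + 1 - ∑ i, α i ^ n := by
  have h0 := h0_of_geometricallyIrreducible k X
  have hK := isFunctionField k X hdim h0
  rw [← genus_eq k X hdim h0]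
  obtain ⟨α, hint, hα, hpair⟩ := FFLib.exists_reciprocal_roots hK
  obtain ⟨β, hβ, hnorm⟩ := FFLib.norm_sq_root hK
  refine ⟨α, hint, fun i => ?_, fun i => by rw [mul_comm]; exact hpair i, hα, fun n hn => ?_⟩
  · have hq : (Nat.card k : ℂ) ≠ 0 := Nat.cast_ne_zero.2 Nat.card_pos.ne'
    have hi : α i ≠ 0 := fun h => hq (by rw [← hpair i, h, zero_mul])
    have hev := congrArg (Polynomial.eval (α i)⁻¹)
      (Polynomial.coe_injective ℂ (hα.symm.trans hβ))
    rw [Polynomial.eval_prod, Polynomial.eval_prod, Finset.prod_eq_zero (Finset.mem_univ i) (by simp [hi]),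
      eq_comm, Finset.prod_eq_zero_iff] at hev
    obtain ⟨j, -, hj⟩ := hev
    simp only [Polynomial.eval_sub, Polynomial.eval_one, Polynomial.eval_mul, Polynomial.eval_C,
      Polynomial.eval_X, sub_eq_zero] at hj
    have : α i = β j := by rw [eq_comm, ← div_eq_mul_inv, div_eq_one_iff_eq hi] at hj; exact hj.symm
    rw [this]
    exact hnorm j
  · rw [nPts_eq_placeCount k X hdim, FFLib.placeCount_eq hK.1 α hα hn]
    ring

end Groth.Agent.ZetaCurve

namespace Groth.Agent.ZetaCurve

/-- The Weil conjectures for curves in elementary form. -/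
theorem weil_conjectures {k : Type u} [Field k] [Finite k] {C : Scheme.{u}}
    (f : C ⟶ Spec (CommRingCat.of k)) (hC : Curve.IsSmoothProperCurve k C f)
    [GeometricallyIrreducible f] (g : ℕ)
    (hg : Nat.card (Coh.HH C (Coh.structureModule C) 1) = Nat.card k ^ g) :
    ∃ α : Fin (2 * g) → ℂ, (∀ i, IsIntegral ℤ (α i)) ∧ (∀ i, ‖α i‖ ^ 2 = Nat.card k) ∧
      (∃ σ : Equiv.Perm (Fin (2 * g)), ∀ i, α (σ i) * α i = Nat.card k) ∧
      ∀ (k' : Type u) [Field k'] [Algebra k k'] [Finite k'],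
        (SgaExt.pointCount f k' : ℂ) =
          (Nat.card k : ℂ) ^ Module.finrank k k' + 1 - ∑ i, α i ^ Module.finrank k k' := by
  obtain ⟨_, _, _, hdim⟩ := hC
  letI : C.Over (Spec (CommRingCat.of k)) := ⟨f⟩
  haveI : IsProper (C ↘ Spec (CommRingCat.of k)) := ‹IsProper f›
  haveI : Smooth (C ↘ Spec (CommRingCat.of k)) := ‹Smooth f›
  haveI : GeometricallyIrreducible (C ↘ Spec (CommRingCat.of k)) := ‹GeometricallyIrreducible f›
  haveI := CurveCohLib.isNoetherian_of_proper (k := k) (X := C)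
  haveI := CurveCohLib.finite_HH (k := k) (QCoh.isCoh_structureModule' (X := C)) 1
  have hgen : Curv2.genus k C = g := by
    have h1 := Module.natCard_eq_pow_finrank (K := k) (V := Coh.HH C (Coh.structureModule C) 1)
    rw [hg] at h1
    exact (Nat.pow_right_injective Finite.one_lt_card h1).symm
  subst hgen
  obtain ⟨α, hint, hn, hpair, -, hN⟩ := exists_roots k C hdim
  refine ⟨α, hint, hn, ⟨Fin.revPerm, hpair⟩, fun k' _ _ _ => ?_⟩
  haveI : Module.Finite k k' := Module.Finite.of_finite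
  haveI : LocallyOfFiniteType f := inferInstance
  haveI : QuasiCompact f := inferInstance
  rw [ZetaLib.pointCount_eq_nPts f k']
  exact hN _ Module.finrank_pos

end Groth.Agent.ZetaCurve

namespace Groth.Agent.ZetaCurve

variable (k : Type u) [Field k] (X : Scheme.{u}) [X.Over (Spec (CommRingCat.of k))] [IsIntegral X]
  [IsProper (X ↘ Spec (CommRingCat.of k))] [Smooth (X ↘ Spec (CommRingCat.of k))]
  (hdim : topologicalKrullDim X = 1)

include hdim in
/-- Closed points of every large prime degree. -/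
theorem exists_degree_prime [Finite k] [GeometricallyIrreducible (X ↘ Spec (CommRingCat.of k))] :
    ∃ N : ℕ, ∀ r : ℕ, r.Prime → N < r → ∃ x : X, IsClosed ({x} : Set X) ∧
      EGA4loc.residueDegree (X ↘ Spec (CommRingCat.of k)) x = r := by
  obtain ⟨α, -, hn, -, -, hN⟩ := exists_roots k X hdim
  set q := Nat.card k
  set f := X ↘ Spec (CommRingCat.of k)
  set s := Real.sqrt q
  have hs1 : 1 < s := by
    rw [Real.lt_sqrt zero_le_one, one_pow]
    exact_mod_cast (Finite.one_lt_card : 1 < Nat.card k)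
  have hα : ∀ i, ‖α i‖ = s := fun i => by
    rw [← Real.sqrt_sq (norm_nonneg (α i)), hn i]
  obtain ⟨N, hN'⟩ := pow_unbounded_of_one_lt ((2 * Curv2.genus k X : ℕ) + (Zeta.nPts f 1 : ℕ) + 1 : ℝ) hs1
  refine ⟨N, fun r hr hNr => ?_⟩
  by_contra hno
  have hcount : Zeta.degCount f r = 0 := by
    rw [Zeta.degCount]
    haveI : IsEmpty {x : X // IsClosed ({x} : Set X) ∧ EGA4loc.residueDegree f x = r} :=
      ⟨fun x => hno ⟨x.1, x.2.1, x.2.2⟩⟩
    exact Nat.card_of_isEmpty
  have hsame : Zeta.nPts f r = Zeta.nPts f 1 := by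
    simp [Zeta.nPts, hr.divisors, hr.one_lt.ne, hcount]
  have h1 := hN r hr.one_le
  rw [hsame] at h1
  have h2 : ‖((q : ℂ) ^ r)‖ ≤ ‖(Zeta.nPts f 1 : ℂ)‖ + ‖(1 : ℂ)‖ + ‖∑ i, α i ^ r‖ := by
    have e : (q : ℂ) ^ r = (Zeta.nPts f 1 : ℂ) - 1 + ∑ i, α i ^ r := by rw [h1]; ring
    rw [e]
    exact (norm_add_le _ _).trans (by gcongr; exact norm_sub_le _ _)
  have h3 : ‖∑ i, α i ^ r‖ ≤ (2 * Curv2.genus k X : ℕ) * s ^ r := by
    refine (norm_sum_le _ _).trans (le_of_eq ?_)
    simp [hα]
  rw [norm_pow, Complex.norm_natCast, Complex.norm_natCast, norm_one,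
    ← Real.sq_sqrt (Nat.cast_nonneg (α := ℝ) q), ← pow_mul, mul_comm, pow_mul] at h2
  have hbig : ((2 * Curv2.genus k X : ℕ) + (Zeta.nPts f 1 : ℕ) + 1 : ℝ) < s ^ r :=
    hN'.trans_le (pow_le_pow_right₀ hs1.le hNr.le)
  have h4 : (s ^ r) ^ 2 ≤ (Zeta.nPts f 1 : ℕ) + 1 + (2 * Curv2.genus k X : ℕ) * s ^ r := by
    exact h2.trans (by linarith)
  have hs0 : 1 ≤ s ^ r := one_le_pow₀ hs1.le
  nlinarith [Nat.cast_nonneg (α := ℝ) (Zeta.nPts f 1), Nat.cast_nonneg (α := ℝ) (2 * Curv2.genus k X)]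

end Groth.Agent.ZetaCurve
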