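import Groth.Agent.ZetaCurve.Pic
import Groth.Agent.ZetaCurve.Count
import Groth.Agent.ZetaLib.ZetaProduct

/-! Line bundles of given degree and the zeta function of a curve over a finite field. -/

noncomputable section

set_option linter.style.haveILetI false
set_option linter.unusedSectionVars false
set_option backward.isDefEq.respectTransparency false
set_option backward.isDefEq.respectTransparency.types false

universe u

open CategoryTheory CategoryTheory.Limits AlgebraicGeometry TopologicalSpace

namespace Groth.Agent.ZetaCurve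

attribute [local instance] ffAlg

variable (k : Type u) [Field k] (X : Scheme.{u}) [X.Over (Spec (CommRingCat.of k))] [IsIntegral X]
  [IsProper (X ↘ Spec (CommRingCat.of k))] [Smooth (X ↘ Spec (CommRingCat.of k))]
  (hdim : topologicalKrullDim X = 1)

/-- Isomorphism classes of line bundles of degree `m`. -/
abbrev PicDeg (m : ℤ) : Type (u + 1) :=
  {c : PicF.Cl X // ∃ L : X.Modules, PicF.cl L = c ∧ PicF.IsInvertible L ∧ Curv2.deg k X L 1 = m}

include hdim in
/-- Line bundles of degree `m` are divisor classes of degree zero, after a shift. -/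
theorem nonempty_picDeg_equiv [Finite k]
    (h0 : Module.finrank k (Coh.HH X (Coh.structureModule X) 0) = 1) (m : ℤ) :
    Nonempty (PicDeg k X m ≃ FFLib.Pic0 k X.functionField) := by
  have hK := isFunctionField k X hdim h0
  obtain ⟨D₁, hD₁⟩ := FFLib.exists_deg_one hK
  choose L hL hinv hdeg using fun c : PicDeg k X m => c.2
  choose U₀ h₀ e he using fun c : PicDeg k X m => InvX.exists_frame (hinv c) (genericPoint X)
  have hd : ∀ c, (divisor k hdim (hinv c) (he c) (h₀ c) - m • D₁).deg = 0 := fun c => by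
    rw [FFLib.Divisor.deg_sub, deg_divisor k hdim h0, hdeg, FFLib.deg_zsmul, hD₁, mul_one, sub_self]
  refine ⟨Equiv.ofBijective (fun c => (QuotientAddGroup.mk ⟨_, FFLib.mem_ker_degHom.2 (hd c)⟩ :
    FFLib.Pic0 k X.functionField)) ⟨fun c c' h => ?_, fun c => ?_⟩⟩
  · have h1 := (FFLib.mk_eq_mk_iff (hd c) (hd c')).1 h
    rw [sub_sub_sub_cancel_right] at h1
    obtain ⟨w⟩ := nonempty_iso_of_clsD_eq k hdim h0 (hinv c) (hinv c') (by
      rw [clsD_eq k hdim hK.1 _ (he c) (h₀ c), clsD_eq k hdim hK.1 _ (he c') (h₀ c'),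
        QuotientAddGroup.eq_iff_sub_mem]
      exact h1)
    refine Subtype.ext ?_
    rw [← hL c, ← hL c']
    exact Quot.sound ⟨w⟩
  · obtain ⟨M, hM, hcls⟩ := clsD_surjective k hdim hK.1 (QuotientAddGroup.mk (FFLib.rep c + m • D₁))
    obtain ⟨V, hV, a, ha⟩ := InvX.exists_frame hM (genericPoint X)
    rw [clsD_eq k hdim hK.1 hM ha hV, QuotientAddGroup.eq_iff_sub_mem] at hcls
    have hdM : Curv2.deg k X M 1 = m := by
      rw [← deg_divisor k hdim h0 hM ha hV, deg_eq_of_mem_prinDivs k hK.1 hcls, FFLib.Divisor.deg_add,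
        FFLib.deg_rep, FFLib.deg_zsmul, hD₁, mul_one, zero_add]
    let c₀ : PicDeg k X m := ⟨PicF.cl M, M, rfl, hM, hdM⟩
    refine ⟨c₀, (FFLib.mk_eq_iff (hd c₀) c).2 ?_⟩
    obtain ⟨w⟩ := H23.PicMul.cl_eq_iff.1 (hL c₀)
    have hww := clsD_iso k hdim hK.1 (hinv c₀) hM w
    rw [clsD_eq k hdim hK.1 _ (he c₀) (h₀ c₀), clsD_eq k hdim hK.1 hM ha hV,
      QuotientAddGroup.eq_iff_sub_mem] at hww
    have := add_mem hww hcls
    convert this using 1
    abel

include hdim in
theorem picDeg_facts [Finite k] [GeometricallyIrreducible (X ↘ Spec (CommRingCat.of k))] (m : ℤ) :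
    Finite (PicDeg k X m) ∧ Nonempty (PicDeg k X m) ∧
      Nat.card (PicDeg k X m) = FunFld.classNum k X.functionField := by
  have h0 := h0_of_geometricallyIrreducible k X
  obtain ⟨e⟩ := nonempty_picDeg_equiv k X hdim h0 m
  haveI := FFLib.finite_pic0 (k := k) (isFunctionField k X hdim h0).1
  exact ⟨Finite.of_equiv _ e.symm, ⟨e.symm 0⟩, (Nat.card_congr e).trans FFLib.classNum_eq.symm⟩

include hdim in
/-- The zeta function of the curve is the zeta series of its function field. -/
theorem zetaFun_eq [Finite k] (hF : FFLib.IsFF k X.functionField) :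
    Zeta.zetaFun (X ↘ Spec (CommRingCat.of k)) =
      PowerSeries.map (Int.castRingHom ℚ) (FunFld.zetaZ k X.functionField) := by
  refine (ZetaLib.hasLogDeriv_zetaFun _).unique ?_ ?_
  · show _ = _
    ext n
    rw [PowerSeries.coeff_derivative, PowerSeries.coeff_mul, ← Finset.Nat.sum_antidiagonal_swap,
      Finset.Nat.sum_antidiagonal_eq_sum_range_succ_mk]
    simp only [Prod.swap, PowerSeries.coeff_map, FunFld.zetaZ, PowerSeries.coeff_mk, map_natCast,
      nPts_eq_placeCount k X hdim]
    have h := congrArg (Nat.cast : ℕ → ℚ) (FFLib.mul_effDivCount (k := k) (K := X.functionField) hF (n + 1))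
    push_cast at h
    rw [mul_comm, h, ← Finset.Ico_add_one_right_eq_Icc, Finset.sum_Ico_eq_sum_range]
    refine Finset.sum_congr (by simp) fun i hi => ?_
    rw [Nat.add_comm 1 i, Nat.add_sub_add_right, mul_comm]
  · rw [ZetaLib.constantCoeff_zetaFun, ← PowerSeries.coeff_zero_eq_constantCoeff_apply, PowerSeries.coeff_map]
    simp [FunFld.zetaZ, FFLib.effDivCount_zero hF]

end Groth.Agent.ZetaCurve
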